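import Groth.Agent.ZClos.K283.DepthTwo
import Groth.Agent.ZClos.K283.Cover

/-!
# The locus where a coherent module is Z-closed
-/

set_option autoImplicit false
universe u

open CategoryTheory TopologicalSpace Opposite CategoryTheory.Limits AlgebraicGeometry

namespace K356.Locus

open ZClos K283.Sec K283.Basic K283.Top K283.Closed K283.Univ K283.QC K283.Depth K283.DepthTwo
open Groth.Agent.CycB.StalkExact

variable {X : Scheme.{u}} {F F' : X.Modules}

theorem bijective_stalkLin (φ : F ⟶ F') {V : X.Opens} {x : X} (hx : x ∈ V)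
    (h : ∀ W : X.Opens, W ≤ V → Function.Bijective (m φ W)) : Function.Bijective (stalkLin φ x) := by
  constructor
  · rw [injective_iff_map_eq_zero]
    intro a ha
    obtain ⟨W, hxW, s, -, hWV, rfl⟩ := exists_germ F hx a
    rw [stalkLin_germ', ← map_zero (F'.presheaf.germ W x hxW).hom] at ha
    obtain ⟨W', hW'W, -, hxW', e⟩ := exists_of_germ_eq F' hxW _ _ ha
    rw [← m_r, map_zero] at e
    have h1 : r F hW'W s = 0 := (h W' (hW'W.trans hWV)).1 (e.trans (map_zero _).symm)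
    rw [← K283.Univ.germ_r F hW'W hxW' s, h1, map_zero]
  · intro b
    obtain ⟨W, hxW, t, -, hWV, rfl⟩ := exists_germ F' hx b
    obtain ⟨s, rfl⟩ := (h W hWV).2 t
    exact ⟨F.presheaf.germ W x hxW s, stalkLin_germ' φ hxW s⟩

theorem isOpen_isZClosedAt [IsLocallyNoetherian X] {Z : Set X} (hF : Coh.IsCoh F)
    (hH : Coh.IsCoh ((ZClos.H0 Z).obj F)) : IsOpen {x : X | IsZClosedAt Z F x} := by
  rw [isOpen_iff_forall_mem_open]
  intro x hx
  obtain ⟨V, hxV, hV⟩ := exists_bijective_near hF hH (rhoApp Z F) x ((isZClosedAt_iff_stalkLin F x).1 hx)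
  exact ⟨V, fun y hy => (isZClosedAt_iff_stalkLin F y).2 (bijective_stalkLin _ hy hV), V.2, hxV⟩

/-- `F|_U` is `Z`-closed if the depth of `F` at the points of `Z ∩ U` is at least two. -/
theorem isZClosed_restrict_of_depth [IsLocallyNoetherian X] {Z : Set X} (hF : Coh.IsCoh F) (U : X.Opens)
    (h : ∀ x ∈ U, x ∈ Z → 2 ≤ LocCoh.depth (X.presheaf.stalk x) (F.presheaf.stalk x)) :
    IsZClosed (U.ι.base ⁻¹' Z) (F.restrict U.ι) := by
  refine isZClosed_of_basis (fun W => IsAffineOpen W) ?_ ?_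
  · intro V x hx
    obtain ⟨_, ⟨W, hW, rfl⟩, hxW, hWV⟩ := U.toScheme.isBasis_affineOpens.exists_subset_of_mem_open hx V.2
    exact ⟨W, hW, hWV, hxW⟩
  · intro T W hW
    have h1 : IsAffineOpen (U.ι ''ᵁ W) := hW.image_of_isOpenImmersion U.ι
    have e : U.ι ''ᵁ (W ⊓ T.U) = (U.ι ''ᵁ W) ⊓ (U.ι ''ᵁ T.U) := by
      ext x
      constructor
      · rintro ⟨y, ⟨hy1, hy2⟩, rfl⟩
        exact ⟨⟨y, hy1, rfl⟩, ⟨y, hy2, rfl⟩⟩
      · rintro ⟨⟨y, hy1, rfl⟩, ⟨z, hz, hzy⟩⟩
        have : z = y := U.ι.isOpenEmbedding.injective hzy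
        subst this
        exact ⟨z, ⟨hy1, hz⟩, rfl⟩
    have h2 := bijective_of_depth hF (U.ι ''ᵁ T.U) h1 (by
      rintro _ ⟨y, hy, rfl⟩ hyT
      refine h _ y.2 ?_
      have h3 : y ∈ (T.1 : Set U.toScheme) := by
        by_contra h3
        exact hyT ⟨y, h3, rfl⟩
      exact T.2 h3)
    have h4 := r_injective_of_eq (F := F) (le_of_eq e) e.symm
    have h3 := h4.comp h2
    change Function.Bijective (r F (U.ι.image_mono (inf_le_left : W ⊓ T.U ≤ W)))
    convert h3 using 1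
    funext s
    exact (r_r (F := F) _ _ s).symm

/-- If `F|_V` is Z-closed the depth at the points of `Z ∩ V` is at least two. -/
theorem two_le_depth_of_restrict [IsLocallyNoetherian X] {Z : Set X} (hZ : StableUnderSpecialization Z)
    (hF : Coh.IsCoh F) (V : X.Opens) (h : IsZClosed (V.ι.base ⁻¹' Z) (F.restrict V.ι)) (x : X) (hxV : x ∈ V)
    (hx : x ∈ Z) : 2 ≤ LocCoh.depth (X.presheaf.stalk x) (F.presheaf.stalk x) := by
  let T : Cl Z := ⟨⟨closure {x}, isClosed_closure⟩, fun y hy => hZ (specializes_iff_mem_closure.2 hy) hx⟩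
  refine two_le_depth_of_bijective_unit hF T.U x (fun h => h (subset_closure rfl)) ?_
  refine bijective_stalkLin _ hxV fun W hW => ?_
  rw [unit_bijective_iff]
  exact K283.Cover.bijective_of_restrict V h T hW

theorem exists_locus [IsLocallyNoetherian X] {Z : Set X} (hZ : StableUnderSpecialization Z)
    (hF : Coh.IsCoh F) (hH : Coh.IsCoh ((ZClos.H0 Z).obj F)) :
    ∃ U : X.Opens, (U : Set X) = {x | ∀ x' : X, x' ⤳ x → x' ∈ Z →
        (2 : ℕ∞) ≤ LocCoh.depth (X.presheaf.stalk x') (F.presheaf.stalk x')} ∧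
      (U : Set X)ᶜ ⊆ Z ∧
      ZClos.IsZClosed (U.ι.base ⁻¹' Z) ((Scheme.Modules.restrictFunctor U.ι).obj F) ∧
      ∀ V : X.Opens, ZClos.IsZClosed (V.ι.base ⁻¹' Z) ((Scheme.Modules.restrictFunctor V.ι).obj F) → V ≤ U := by
  have h0 : ∀ x : X, IsZClosedAt Z F x ↔ ∀ x' : X, x' ⤳ x → x' ∈ Z →
        (2 : ℕ∞) ≤ LocCoh.depth (X.presheaf.stalk x') (F.presheaf.stalk x') :=
    fun x => isZClosedAt_iff_depth hZ hF x
  refine ⟨⟨{x | IsZClosedAt Z F x}, isOpen_isZClosedAt hF hH⟩, ?_, ?_, ?_, ?_⟩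
  · ext x
    exact h0 x
  · intro x hx
    by_contra hxZ
    exact hx (isZClosedAt_of_notMem F x hxZ)
  · exact isZClosed_restrict_of_depth hF _ fun x hx hxZ => (h0 x).1 hx x (specializes_refl x) hxZ
  · intro V hV x hx
    refine (h0 x).2 fun x' hx' hx'Z => ?_
    exact two_le_depth_of_restrict hZ hF V hV x' (hx'.mem_open V.2 hx) hx'Z

end K356.Locus
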