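import Groth.Agent.ZClos.K283.Closed
import Groth.Agent.ZClos.K283.LeftExact
import Groth.Agent.CohqA.AssInj
import Groth.Agent.S0046

/-!
# Z-pure modules: associated points, the transition maps are monomorphisms
-/

set_option autoImplicit false
universe u

open CategoryTheory TopologicalSpace Opposite CategoryTheory.Limits AlgebraicGeometry

namespace K356.Pure

open K283.Sec K283.Basic K283.Closed ZClos

variable {X : Scheme.{u}} {Z : Set X} {F F' : X.Modules}

/-- A quasi-coherent module without associated points in `Z` is `Z`-pure. -/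
theorem isZPure_of_ass [IsLocallyNoetherian X] (hF : Coh.IsQCoh F) (h : ∀ x ∈ AssSch.Ass F, x ∉ Z) :
    IsZPure Z F := by
  rw [isZPure_iff_injective]
  intro T V
  exact Groth.Agent.CohqA.AssInj.res_injective hF _ fun x hx hxV => ⟨hxV, fun hxT => h x hx (T.2 hxT)⟩

/-- For a `Z`-pure module the maps `(i_T)_*(F|_{X ∖ T}) → H⁰_{X/Z}(F)` are monomorphisms. -/
theorem mono_inj (h : IsZPure Z F) (T : Cl Z) : Mono (inj F T) := by
  refine mono_of_basis (fun V => IsCompact (V : Set X)) (fun V x hx => K283.Top.exists_isCompact hx) _ ?_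
  intro V hV
  rw [injective_iff_map_eq_zero]
  intro s hs
  rw [inj_app] at hs
  obtain ⟨T', hT, hT'⟩ := exists_r_eq_zero F hV _ _ hs
  have h1 : V ⊓ T'.U = (V ⊓ T.U) ⊓ T'.U := by
    rw [inf_assoc, inf_eq_right.2 (Cl.U_anti hT)]
  have h2 : ofPush F T.U V s = 0 := by
    refine isZPure_iff_injective.1 h T' (V ⊓ T.U) ?_
    have h3 := congrArg (r F h1.ge) hT'
    rw [r_r, map_zero] at h3
    rw [h3, map_zero]
  rw [← toPush_ofPush F T.U V s, h2, map_zero]

/-- a) ⇒ d). -/
theorem isCoh_resPush [IsLocallyNoetherian X] (hF : Coh.IsCoh F)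
    (hass : ∀ x ∈ AssSch.Ass F, x ∉ Z) (hH : Coh.IsCoh ((ZClos.H0 Z).obj F)) (T : ZClos.Cl Z) :
    Coh.IsCoh ((ZClos.resPush T.U).obj F) := by
  have := mono_inj (isZPure_of_ass hF.1 hass) T
  exact Groth.Agent.S0046.result X _ _ (inj F T) hH (K283.LeftExact.isQCoh_resPush T.U hF.1)

end K356.Pure
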