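import Groth.Agent.ZClos.K283.Univ
import Groth.Agent.ZClos.K356.Pure
import Groth.Agent.Ega4C.ZTransformRestrict
import Groth.Agent.Ega1.QCohLoc

/-!
# Sections of the Z-closure over an affine open: the Z-transform of the module of sections

For `V` affine open in a locally Noetherian scheme and `F` quasi-coherent, the map
`Γ(F, V) → Γ(H⁰_{X/Z}(F), V)` is a `Z_V`-envelope with `Z_V`-torsion cokernel, where
`Z_V ⊆ Spec Γ(X, V)` is the trace of `Z`.
-/

set_option autoImplicit false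
universe u

open CategoryTheory TopologicalSpace Opposite CategoryTheory.Limits AlgebraicGeometry

namespace K356.AffSec

open K283.Sec K283.Basic K283.Closed K283.Univ ZClos
open Groth.Agent.Ega4C.ZTransform
open Groth.Agent.Ega1 (QCohLoc.res QCohLoc.resO QCohLoc.IsLocAt QCohLoc.isLocAt_of_isQCoh)
open Groth.Agent.Ega1.QCohLoc

variable {X : Scheme.{u}} {Z : Set X} {F F' : X.Modules} {V : X.Opens}

/-- The trace of `Z` on the spectrum of the ring of an affine open. -/
def ZV (hV : IsAffineOpen V) (Z : Set X) : Set (PrimeSpectrum Γ(X, V)) :=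
  {p | hV.fromSpec p ∈ Z}

theorem mem_ZV {hV : IsAffineOpen V} {p : PrimeSpectrum Γ(X, V)} :
    p ∈ ZV hV Z ↔ hV.fromSpec p ∈ Z := Iff.rfl

theorem stable_ZV (hV : IsAffineOpen V) (hZ : StableUnderSpecialization Z) :
    StableUnderSpecialization (ZV hV Z) := by
  intro x y h hx
  exact hZ (h.map hV.fromSpec.continuous) hx

theorem fromSpec_mem (hV : IsAffineOpen V) (p : PrimeSpectrum Γ(X, V)) : hV.fromSpec p ∈ V := by
  have h : (hV.fromSpec p : X) ∈ Set.range hV.fromSpec := ⟨p, rfl⟩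
  rwa [hV.range_fromSpec] at h

theorem exists_fromSpec_eq (hV : IsAffineOpen V) {x : X} (hx : x ∈ V) :
    ∃ p : PrimeSpectrum Γ(X, V), hV.fromSpec p = x := by
  have h : x ∈ (V : Set X) := hx
  rw [← hV.range_fromSpec] at h
  exact h

theorem fromSpec_mem_basicOpen (hV : IsAffineOpen V) (p : PrimeSpectrum Γ(X, V)) (a : Γ(X, V)) :
    hV.fromSpec p ∈ X.basicOpen a ↔ a ∉ p.asIdeal := by
  have h := hV.fromSpec_preimage_basicOpen a
  have h2 : p ∈ hV.fromSpec ⁻¹ᵁ X.basicOpen a ↔ p ∈ PrimeSpectrum.basicOpen a :=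
    Iff.of_eq (congrArg (fun U : (Spec Γ(X, V)).Opens => p ∈ U) h)
  exact h2

/-- A morphism of modules on sections, as a linear map. -/
noncomputable def appL (φ : F ⟶ F') (V : X.Opens) : Γ(F, V) →ₗ[Γ(X, V)] Γ(F', V) where
  toFun := φ.app V
  map_add' := map_add _
  map_smul' r s := Groth.Agent.Ega1.SubSheaf.app_smul' φ r s

theorem appL_apply (φ : F ⟶ F') (V : X.Opens) (s : Γ(F, V)) : appL φ V s = m φ V s := rfl

theorem appL_res (φ : F ⟶ F') {V W : X.Opens} (h : W ≤ V) (s : Γ(F, V)) :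
    appL φ W (res F h s) = res F' h (appL φ V s) := m_r φ h s

theorem isUnit_resO {a : Γ(X, V)} {W : X.Opens} (h : W ≤ V) (h' : W ≤ X.basicOpen a) :
    IsUnit (resO h a) := by
  have h1 : IsUnit (resO (X.basicOpen_le a) a) := RingedSpace.isUnit_res_basicOpen _ a
  have h2 := h1.map (resO h')
  rwa [resO_resO] at h2

/-- A closed subset `V(J)` of `V` contained in `Z` is the trace of a closed subset of `X` contained in `Z`. -/
theorem exists_Cl_of_zeroLocus [IsLocallyNoetherian X] (hZ : StableUnderSpecialization Z)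
    (hV : IsAffineOpen V) (J : Ideal Γ(X, V)) (hJ : PrimeSpectrum.zeroLocus (J : Set Γ(X, V)) ⊆ ZV hV Z) :
    ∃ T : Cl Z, V ⊓ T.U = ⨆ g : J, X.basicOpen g.1 := by
  refine K283.Top.exists_Cl hZ hV.isCompact (iSup_le fun g => X.basicOpen_le g.1) ?_
  rintro x ⟨hxV, hx⟩
  obtain ⟨p, rfl⟩ := exists_fromSpec_eq hV hxV
  refine hJ ?_
  intro a ha
  by_contra hap
  exact hx (Opens.mem_iSup.2 ⟨⟨a, ha⟩, (fromSpec_mem_basicOpen hV p a).2 hap⟩)

/-- Sections of a `Z`-closed module over `V ∖ V(J)`. -/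
theorem bijective_res [IsLocallyNoetherian X] (hZ : StableUnderSpecialization Z) {H : X.Modules}
    (hH : IsZClosed Z H) (hV : IsAffineOpen V) (J : Ideal Γ(X, V))
    (hJ : PrimeSpectrum.zeroLocus (J : Set Γ(X, V)) ⊆ ZV hV Z) :
    Function.Bijective (res H (iSup_le fun g : J => X.basicOpen_le g.1)) := by
  obtain ⟨T, hT⟩ := exists_Cl_of_zeroLocus hZ hV J hJ
  have h1 := isZClosed_iff_bijective.1 hH T V
  have h2 : ∀ (W : X.Opens) (h : W ≤ V), V ⊓ T.U = W → Function.Bijective (r H h) := by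
    rintro W h rfl
    exact h1
  exact h2 _ _ hT

theorem injective_res [IsLocallyNoetherian X] (hZ : StableUnderSpecialization Z) {H : X.Modules}
    (hH : IsZPure Z H) (hV : IsAffineOpen V) (J : Ideal Γ(X, V))
    (hJ : PrimeSpectrum.zeroLocus (J : Set Γ(X, V)) ⊆ ZV hV Z) :
    Function.Injective (res H (iSup_le fun g : J => X.basicOpen_le g.1)) := by
  obtain ⟨T, hT⟩ := exists_Cl_of_zeroLocus hZ hV J hJ
  have h1 := isZPure_iff_injective.1 hH T V
  have h2 : ∀ (W : X.Opens) (h : W ≤ V), V ⊓ T.U = W → Function.Injective (r H h) := by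
    rintro W h rfl
    exact h1
  exact h2 _ _ hT

/-- A `Z`-pure module has no `Z`-torsion sections. -/
theorem tors_eq_bot [IsLocallyNoetherian X] (hZ : StableUnderSpecialization Z) {H : X.Modules}
    (hH : IsZPure Z H) (hV : IsAffineOpen V) : tors (ZV hV Z) Γ(H, V) = ⊥ := by
  rw [eq_bot_iff]
  intro n hn
  rw [mem_tors_iff_zeroLocus] at hn
  rw [Submodule.mem_bot]
  refine injective_res hZ hH hV _ hn ?_
  rw [map_zero]
  refine eq_of_locally_eq H (fun g : (Ideal.torsionOf Γ(X, V) Γ(H, V) n) => X.basicOpen g.1) _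
    (fun g => le_iSup (fun g : (Ideal.torsionOf Γ(X, V) Γ(H, V) n) => X.basicOpen g.1) g) le_rfl _ _ fun g => ?_
  rw [res_res, map_zero]
  have h1 : g.1 • n = 0 := (Ideal.mem_torsionOf_iff n g.1).1 g.2
  have h2 := congrArg (res H (X.basicOpen_le g.1)) h1
  rw [res_smul, map_zero] at h2
  exact (isUnit_resO (X.basicOpen_le g.1) le_rfl).smul_left_cancel.1 (h2.trans (smul_zero _).symm)

/-- The extension property of the sections of a `Z`-closed module. -/
theorem closed_of_isZClosed [IsLocallyNoetherian X] (hZ : StableUnderSpecialization Z) {H : X.Modules}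
    (hH : IsZClosed Z H) (hV : IsAffineOpen V) (J : Ideal Γ(X, V))
    (hJ : PrimeSpectrum.zeroLocus (J : Set Γ(X, V)) ⊆ ZV hV Z) (f : J →ₗ[Γ(X, V)] Γ(H, V)) :
    ∃ e : Γ(H, V), ∀ x : J, f x = (x : Γ(X, V)) • e := by
  have hle : ∀ g : J, X.basicOpen g.1 ≤ V := fun g => X.basicOpen_le g.1
  have h1 : ∀ g : J, ∃ s : Γ(H, X.basicOpen g.1), resO (hle g) g.1 • s = res H (hle g) (f g) := by
    intro g
    obtain ⟨v, hv⟩ := isUnit_resO (hle g) le_rfl
    refine ⟨(↑v⁻¹ : Γ(X, X.basicOpen g.1)) • res H (hle g) (f g), ?_⟩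
    rw [← hv, smul_smul, Units.mul_inv, one_smul]
  choose s hs using h1
  obtain ⟨t, ht⟩ := exists_gluing H (fun g : J => X.basicOpen g.1) (⨆ g : J, X.basicOpen g.1)
    (fun g => le_iSup (fun g : J => X.basicOpen g.1) g) le_rfl s (by
      intro g h
      have hg := isUnit_resO (inf_le_left.trans (hle g) : X.basicOpen g.1 ⊓ X.basicOpen h.1 ≤ V) inf_le_left
      have hh := isUnit_resO (inf_le_left.trans (hle g) : X.basicOpen g.1 ⊓ X.basicOpen h.1 ≤ V) inf_le_right
      refine (hg.mul hh).smul_left_cancel.1 ?_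
      have e1 := congrArg (res H (inf_le_left : X.basicOpen g.1 ⊓ X.basicOpen h.1 ≤ X.basicOpen g.1)) (hs g)
      have e2 := congrArg (res H (inf_le_right : X.basicOpen g.1 ⊓ X.basicOpen h.1 ≤ X.basicOpen h.1)) (hs h)
      rw [res_smul, res_res, resO_resO] at e1 e2
      have e3 : h.1 • f g = g.1 • f h := by
        rw [← map_smul, ← map_smul]
        congr 1
        exact Subtype.ext (mul_comm _ _)
      have e4 := congrArg (res H (inf_le_left.trans (hle g) : X.basicOpen g.1 ⊓ X.basicOpen h.1 ≤ V)) e3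
      rw [res_smul, res_smul] at e4
      rw [mul_smul, smul_comm, e1, e4, mul_smul, e2])
  obtain ⟨e, he⟩ := (bijective_res hZ hH hV J hJ).2 t
  refine ⟨e, fun x => (bijective_res hZ hH hV J hJ).1 ?_⟩
  refine eq_of_locally_eq H (fun g : J => X.basicOpen g.1) _
    (fun g => le_iSup (fun g : J => X.basicOpen g.1) g) le_rfl _ _ fun g => ?_
  refine (isUnit_resO (hle g) le_rfl).smul_left_cancel.1 ?_
  have e1 := congrArg (res H (le_iSup (fun g : J => X.basicOpen g.1) g)) he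
  rw [res_res, ht g] at e1
  rw [res_res, res_res, res_smul, e1, smul_comm, hs g, ← res_smul, ← res_smul]
  congr 1
  rw [← map_smul, ← map_smul]
  congr 1
  exact Subtype.ext (mul_comm _ _)

/-- A point of `V` outside `Z` and an open neighbourhood of it: a function on `V`. -/
theorem exists_basicOpen_le (hV : IsAffineOpen V) {W : X.Opens} {p : PrimeSpectrum Γ(X, V)}
    (hp : hV.fromSpec p ∈ W) : ∃ g : Γ(X, V), g ∉ p.asIdeal ∧ X.basicOpen g ≤ W := by
  obtain ⟨g, hg, hpg⟩ := hV.exists_basicOpen_le ⟨_, hp⟩ (fromSpec_mem hV p)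
  exact ⟨g, (fromSpec_mem_basicOpen hV p g).1 hpg, hg⟩

/-- The kernel of `Γ(F, V) → Γ(H⁰(F), V)` is `Z`-torsion. -/
theorem ker_le_tors (hF : Coh.IsQCoh F) (hV : IsAffineOpen V) :
    LinearMap.ker (appL (rhoApp Z F) V) ≤ tors (ZV hV Z) Γ(F, V) := by
  intro s hs p hp
  have h1 : m (rhoApp Z F) V s = 0 := hs
  rw [← toH_r_self F ⊥] at h1
  obtain ⟨T, hT, h2⟩ := exists_r_eq_zero F hV.isCompact _ _ h1
  rw [r_r] at h2
  obtain ⟨g, hg, hgW⟩ := exists_basicOpen_le hV (W := V ⊓ T.U) (p := p)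
    ⟨fromSpec_mem hV p, fun h => hp (T.2 h)⟩
  have h3 : res F (X.basicOpen_le g) s = 0 := by
    have := congrArg (r F hgW) h2
    rw [r_r, map_zero] at this
    exact this
  obtain ⟨n, hn⟩ := (isLocAt_of_isQCoh hF hV g).inj s h3
  exact ⟨g ^ n, fun h => hg (p.2.mem_of_pow_mem n h), hn⟩

/-- The cokernel of `Γ(F, V) → Γ(H⁰(F), V)` is `Z`-torsion. -/
theorem mem_DZ_appL [IsLocallyNoetherian X] (hF : Coh.IsQCoh F) (hV : IsAffineOpen V)
    (n : Γ((H0 Z).obj F, V)) : n ∈ DZ (ZV hV Z) (appL (rhoApp Z F) V) := by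
  intro p hp
  obtain ⟨T, s, hs⟩ := exists_toH_eq F hV.isCompact n
  obtain ⟨g, hg, hgW⟩ := exists_basicOpen_le hV (W := V ⊓ T.U) (p := p)
    ⟨fromSpec_mem hV p, fun h => hp (T.2 h)⟩
  obtain ⟨k, t, ht⟩ := (isLocAt_of_isQCoh hF hV g).surj (r F hgW s)
  have h1 : res ((H0 Z).obj F) (X.basicOpen_le g) (appL (rhoApp Z F) V t - g ^ k • n) = 0 := by
    rw [map_sub, ← appL_res, ht, map_smul, res_smul, map_pow, ← hs, sub_eq_zero]
    congr 1
    exact (r_toH_of_le F T hgW s).symm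
  obtain ⟨l, hl⟩ := (isLocAt_of_isQCoh (K283.LeftExact.isQCoh_H0 Z hF) hV g).inj _ h1
  refine ⟨g ^ (l + k), fun h => hg (p.2.mem_of_pow_mem _ h), g ^ l • t, ?_⟩
  rw [smul_sub, sub_eq_zero, ← map_smul, smul_smul, ← pow_add] at hl
  exact hl

/-- The map on sections over an affine open is a `Z`-envelope. -/
theorem isZEnv_appL [IsLocallyNoetherian X] (hZ : StableUnderSpecialization Z) (hF : Coh.IsQCoh F)
    (hV : IsAffineOpen V) : IsZEnv (ZV hV Z) (appL (rhoApp Z F) V) where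
  ker_le := ker_le_tors hF hV
  tors_eq_bot := tors_eq_bot hZ (IsZClosed.isZPure (isZClosed_H0 F)) hV
  closed J hJ f := closed_of_isZClosed hZ (isZClosed_H0 F) hV J hJ f

theorem DZ_appL [IsLocallyNoetherian X] (hF : Coh.IsQCoh F) (hV : IsAffineOpen V) :
    DZ (ZV hV Z) (appL (rhoApp Z F) V) = ⊤ := by
  rw [Submodule.eq_top_iff']
  exact mem_DZ_appL hF hV

/-- Finiteness of the sections of the Z-closure over an affine open. -/
theorem finite_iff_PZ [IsLocallyNoetherian X] (hZ : StableUnderSpecialization Z) (hF : Coh.IsQCoh F)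
    (hV : IsAffineOpen V) :
    Module.Finite Γ(X, V) Γ((H0 Z).obj F, V) ↔ PZ (ZV hV Z) Γ(F, V) := by
  rw [PZ_iff_of_env (isZEnv_appL hZ hF hV), DZ_appL hF hV]
  exact (Module.Finite.equiv_iff (Submodule.topEquiv)).symm

end K356.AffSec
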