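import Groth.Agent.ZClos.K356.AffSec
import Groth.Agent.CohqB.FiniteType2
import Groth.Prelude.Def_EGA4c

/-!
# Coherence of the Z-closure, affine locally; the case of `M~` on `Spec A`
-/

set_option autoImplicit false
universe u

open CategoryTheory TopologicalSpace Opposite CategoryTheory.Limits AlgebraicGeometry

namespace K356.AffTilde

open ZClos K356.AffSec
open Groth.Agent.Ega4C.ZTransform

section

variable {X : Scheme.{u}} [IsLocallyNoetherian X] {Z : Set X} {F : X.Modules}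

/-- Coherence of the Z-closure can be tested on an affine open cover, with the Z-transforms of the modules
of sections. -/
theorem isCoh_H0_iff_of_cover (hZ : StableUnderSpecialization Z) (hF : Coh.IsQCoh F) {ι : Type*}
    (V : ι → X.Opens) (hV : ∀ i, IsAffineOpen (V i)) (hcov : ⨆ i, V i = ⊤) :
    Coh.IsCoh ((ZClos.H0 Z).obj F) ↔ ∀ i, PZ (ZV (hV i) Z) Γ(F, V i) := by
  have hq : Coh.IsQCoh ((ZClos.H0 Z).obj F) := K283.LeftExact.isQCoh_H0 Z hF
  have h1 := Groth.Agent.CohqB.FiniteType2.isFT_iff_finite_sections_of_cover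
    ((ZClos.H0 Z).obj F) V hV hcov
  have h2 : Coh.IsCoh ((ZClos.H0 Z).obj F) ↔ Groth.Agent.CohqB.FiniteType.IsFT ((ZClos.H0 Z).obj F) :=
    ⟨fun h => h.2, fun h => ⟨hq, h⟩⟩
  rw [h2, h1]
  exact forall_congr' fun i => finite_iff_PZ hZ hF (hV i)

theorem isCoh_H0_iff (hZ : StableUnderSpecialization Z) (hF : Coh.IsQCoh F) :
    Coh.IsCoh ((ZClos.H0 Z).obj F) ↔ ∀ (V : X.Opens) (hV : IsAffineOpen V), PZ (ZV hV Z) Γ(F, V) := by
  have hq : Coh.IsQCoh ((ZClos.H0 Z).obj F) := K283.LeftExact.isQCoh_H0 Z hF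
  have h1 := Groth.Agent.CohqB.FiniteType2.isFT_iff_finite_sections ((ZClos.H0 Z).obj F)
  have h2 : Coh.IsCoh ((ZClos.H0 Z).obj F) ↔ Groth.Agent.CohqB.FiniteType.IsFT ((ZClos.H0 Z).obj F) :=
    ⟨fun h => h.2, fun h => ⟨hq, h⟩⟩
  rw [h2, h1]
  exact forall₂_congr fun V hV => finite_iff_PZ hZ hF hV

end

section tilde

variable {R : CommRingCat.{u}}

theorem fromSpec_top_apply (p : PrimeSpectrum Γ(Spec R, ⊤)) :
    (isAffineOpen_top (Spec R)).fromSpec p =
      PrimeSpectrum.comap (algebraMap R Γ(Spec R, ⊤)) p := by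
  rw [IsAffineOpen.fromSpec_top, Scheme.isoSpec_Spec_inv]
  rfl

theorem ZV_top_eq (Z : Set (PrimeSpectrum R)) :
    ZV (isAffineOpen_top (Spec R)) Z = preZ Γ(Spec R, ⊤) Z := by
  ext p
  rw [mem_ZV, fromSpec_top_apply]
  rfl

theorem PZ_tilde {Z : Set (PrimeSpectrum R)} (hZ : StableUnderSpecialization Z) (M : ModuleCat.{u} R) :
    PZ (ZV (isAffineOpen_top (Spec R)) Z) Γ(tilde M, ⊤) ↔ PZ Z M := by
  have hfin : Module.Finite R Γ(Spec R, ⊤) := by
    have h1 : Function.Bijective (algebraMap R Γ(Spec R, ⊤)) :=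
      StructureSheaf.algebraMap_obj_top_bijective
    exact Module.Finite.of_surjective (Algebra.linearMap R _) h1.2
  have e : M ≃ₗ[R] Γ(tilde M, ⊤) := (tilde.isoTop M).toLinearEquiv
  rw [ZV_top_eq, PZ_congr e]
  exact (PZ_iff_of_finite hZ).symm

/-- Coherence of the Z-closure of `M~` is finiteness of the Z-transform of `M`. -/
theorem isCoh_H0_tilde_iff [IsNoetherianRing R] {Z : Set (PrimeSpectrum R)}
    (hZ : StableUnderSpecialization Z) (M : ModuleCat.{u} R) :
    Coh.IsCoh ((ZClos.H0 (X := Spec R) Z).obj (tilde M)) ↔ PZ Z M := by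
  have hq : Coh.IsQCoh (tilde M) := inferInstanceAs (tilde M).IsQuasicoherent
  rw [isCoh_H0_iff_of_cover hZ hq (fun _ : Unit => (⊤ : (Spec R).Opens))
    (fun _ => isAffineOpen_top _) (by simp)]
  exact ⟨fun h => (PZ_tilde hZ M).1 (h ()), fun h _ => (PZ_tilde hZ M).2 h⟩

theorem isCoh_H0_tildeOf_iff {A : Type u} [CommRing A] [IsNoetherianRing A] {Z : Set (PrimeSpectrum A)}
    (hZ : StableUnderSpecialization Z) (M : Type u) [AddCommGroup M] [Module A M] :
    Coh.IsCoh ((ZClos.H0 (X := Spec (CommRingCat.of A)) Z).obj (EGA4.tildeOf A M)) ↔ PZ Z M :=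
  have : IsNoetherianRing (CommRingCat.of A) := ‹IsNoetherianRing A›
  isCoh_H0_tilde_iff (R := CommRingCat.of A) hZ (ModuleCat.of (CommRingCat.of A) M)

end tilde

end K356.AffTilde
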