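import Groth.Agent.ZClos.K356.Family

/-!
# The codimension condition in terms of local rings
-/

set_option autoImplicit false
universe u

open CategoryTheory TopologicalSpace Opposite CategoryTheory.Limits AlgebraicGeometry

namespace K356.Codim

open ZClos K356.AffSec K356.Family
open Groth.Agent.Ega4C.ZTransform

/-- The dimension of the quotient of a localization of `A` at a prime by the extension of a smaller prime. -/
theorem ringKrullDim_quotient_map {A S : Type u} [CommRing A] [CommRing S] [Algebra A S] (P p : Ideal A)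
    [hP : P.IsPrime] (hp : p ≤ P) [IsLocalization.AtPrime S P] :
    ringKrullDim (S ⧸ p.map (algebraMap A S)) = (P.map (Ideal.Quotient.mk p)).height := by
  have hq : (P.map (Ideal.Quotient.mk p)).IsPrime :=
    Ideal.map_isPrime_of_surjective Ideal.Quotient.mk_surjective (by rwa [Ideal.mk_ker])
  have h1 : Algebra.algebraMapSubmonoid (A ⧸ p) P.primeCompl = (P.map (Ideal.Quotient.mk p)).primeCompl := by
    ext a
    constructor
    · rintro ⟨b, hb, rfl⟩ h
      refine hb ?_
      have h2 : b ∈ (P.map (Ideal.Quotient.mk p)).comap (Ideal.Quotient.mk p) := h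
      rwa [Ideal.comap_map_of_surjective _ Ideal.Quotient.mk_surjective, ← RingHom.ker_eq_comap_bot,
        Ideal.mk_ker, sup_eq_left.2 hp] at h2
    · intro ha
      obtain ⟨b, rfl⟩ := Ideal.Quotient.mk_surjective a
      exact ⟨b, fun hb => ha (Ideal.mem_map_of_mem _ hb), rfl⟩
  have h2 : IsLocalization (Algebra.algebraMapSubmonoid (A ⧸ p) P.primeCompl)
      (S ⧸ p.map (algebraMap A S)) := inferInstance
  have h3 : IsLocalization.AtPrime (S ⧸ p.map (algebraMap A S)) (P.map (Ideal.Quotient.mk p)) := by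
    rw [IsLocalization.AtPrime, ← h1]
    exact h2
  exact IsLocalization.AtPrime.ringKrullDim_eq_height (P.map (Ideal.Quotient.mk p)) _

variable {X : Scheme.{u}} {Z : Set X} {F : X.Modules}

/-- The prime of the generization `x` of `y` in the local ring at `y` is extended from an affine open. -/
theorem comap_stalkSpecializes_eq {V : X.Opens} (hV : IsAffineOpen V) {x y : X} (h : x ⤳ y) (hy : y ∈ V)
    (hx : x ∈ V) :
    (IsLocalRing.maximalIdeal (X.presheaf.stalk x)).comap (X.presheaf.stalkSpecializes h).hom =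
      (hV.primeIdealOf ⟨x, hx⟩).asIdeal.map (X.presheaf.germ V y hy).hom := by
  let : Algebra Γ(X, V) (X.presheaf.stalk y) :=
    TopCat.Presheaf.algebra_section_stalk X.presheaf ⟨y, hy⟩
  have : IsLocalization.AtPrime (X.presheaf.stalk y) (hV.primeIdealOf ⟨y, hy⟩).asIdeal :=
    hV.isLocalization_stalk ⟨y, hy⟩
  have h1 : ((IsLocalRing.maximalIdeal (X.presheaf.stalk x)).comap
      (X.presheaf.stalkSpecializes h).hom).comap (algebraMap Γ(X, V) (X.presheaf.stalk y)) =
      (hV.primeIdealOf ⟨x, hx⟩).asIdeal := by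
    rw [Groth.Agent.Fdesc.AssPoints.primeIdealOf_eq_comap hV x hx, Ideal.comap_comap]
    congr 1
    ext a
    exact X.presheaf.germ_stalkSpecializes_apply hy h a
  rw [← h1]
  exact (IsLocalization.map_comap (hV.primeIdealOf ⟨y, hy⟩).asIdeal.primeCompl _ _).symm

theorem two_le_dim [IsLocallyNoetherian X] (hZ : StableUnderSpecialization Z) (hF : Coh.IsCoh F)
    (hH : Coh.IsCoh ((ZClos.H0 Z).obj F))
    (x : X) (hx : x ∈ AssSch.Ass F) (hxZ : x ∉ Z) (y : X) (hy : y ∈ Z) (h : x ⤳ y) :
    (2 : WithBot ℕ∞) ≤ ringKrullDim (X.presheaf.stalk y ⧸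
      (IsLocalRing.maximalIdeal (X.presheaf.stalk x)).comap (X.presheaf.stalkSpecializes h).hom) := by
  obtain ⟨_, ⟨V, hV, rfl⟩, hyV, -⟩ := X.isBasis_affineOpens.exists_subset_of_mem_open
    (show y ∈ ((⊤ : X.Opens) : Set X) from trivial) (⊤ : X.Opens).2
  replace hV : IsAffineOpen V := hV
  have hxV : x ∈ V := h.mem_open V.2 hyV
  let : Algebra Γ(X, V) (X.presheaf.stalk y) :=
    TopCat.Presheaf.algebra_section_stalk X.presheaf ⟨y, hyV⟩
  have : IsLocalization.AtPrime (X.presheaf.stalk y) (hV.primeIdealOf ⟨y, hyV⟩).asIdeal :=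
    hV.isLocalization_stalk ⟨y, hyV⟩
  have hle := (Groth.Agent.Fdesc.AssPoints.specializes_iff hV x y hxV hyV).1 h
  rw [comap_stalkSpecializes_eq hV h hyV hxV]
  have h1 := ringKrullDim_quotient_map (S := X.presheaf.stalk y) (hV.primeIdealOf ⟨y, hyV⟩).asIdeal
    (hV.primeIdealOf ⟨x, hxV⟩).asIdeal hle
  refine le_of_le_of_eq ?_ h1.symm
  have hq : ((hV.primeIdealOf ⟨y, hyV⟩).asIdeal.map
      (Ideal.Quotient.mk (hV.primeIdealOf ⟨x, hxV⟩).asIdeal)).IsPrime :=
    Ideal.map_isPrime_of_surjective Ideal.Quotient.mk_surjective (by rwa [Ideal.mk_ker])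
  have h2 := two_le_height hZ hF hH hV (hV.primeIdealOf ⟨x, hxV⟩)
    (by rwa [hV.fromSpec_primeIdealOf]) (by rwa [hV.fromSpec_primeIdealOf]) ⟨_, hq⟩ (by
      have h3 : PrimeSpectrum.comap (algebraMap Γ(X, V) (Γ(X, V) ⧸ (hV.primeIdealOf ⟨x, hxV⟩).asIdeal))
          ⟨_, hq⟩ = hV.primeIdealOf ⟨y, hyV⟩ := by
        ext a
        change a ∈ ((hV.primeIdealOf ⟨y, hyV⟩).asIdeal.map
          (Ideal.Quotient.mk (hV.primeIdealOf ⟨x, hxV⟩).asIdeal)).comap (Ideal.Quotient.mk _) ↔ _
        rw [Ideal.comap_map_of_surjective _ Ideal.Quotient.mk_surjective, ← RingHom.ker_eq_comap_bot,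
          Ideal.mk_ker, sup_eq_left.2 hle]
      change _ ∈ ZV hV Z
      rw [h3, mem_ZV, hV.fromSpec_primeIdealOf]
      exact hy)
  exact WithBot.coe_le_coe.2 h2

end K356.Codim
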