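import Groth.Agent.ZClos.K356.AffTilde
import Groth.Agent.Ega4C.ZTransformCodim
import Groth.Agent.Fdesc.AssPoints

/-!
# The Z-closure for a closed subset; associated points; the codimension condition
-/

set_option autoImplicit false
universe u

open CategoryTheory TopologicalSpace Opposite CategoryTheory.Limits AlgebraicGeometry

namespace K356.Family

open ZClos K356.AffSec K283.Basic
open Groth.Agent.Ega4C.ZTransform

variable {X : Scheme.{u}} {Z : Set X} {F : X.Modules}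

theorem primeIdealOf_fromSpec {V : X.Opens} (hV : IsAffineOpen V) (p : PrimeSpectrum Γ(X, V)) :
    hV.primeIdealOf ⟨hV.fromSpec p, fromSpec_mem hV p⟩ = p := by
  apply hV.fromSpec.isOpenEmbedding.injective
  rw [hV.fromSpec_primeIdealOf]

theorem mem_Ass_iff [IsLocallyNoetherian X] (hF : Coh.IsQCoh F) {V : X.Opens} (hV : IsAffineOpen V)
    (p : PrimeSpectrum Γ(X, V)) :
    hV.fromSpec p ∈ AssSch.Ass F ↔ p.asIdeal ∈ associatedPrimes Γ(X, V) Γ(F, V) := by
  have h := Groth.Agent.Fdesc.AssPoints.mem_Ass_iff F hV hF (hV.fromSpec p) (fromSpec_mem hV p)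
  rwa [primeIdealOf_fromSpec] at h

/-- The largest closed subset contained in a closed set. -/
def topCl (T : Closeds X) : Cl (T : Set X) := ⟨T, le_rfl⟩

theorem isIso_inj_top (T : Closeds X) (F : X.Modules) : IsIso (inj (Z := (T : Set X)) F (topCl T)) := by
  have h : IsTerminal (topCl T : Cl (T : Set X)) :=
    IsTerminal.ofUniqueHom (fun T' => homOfLE T'.2) (fun _ _ => Subsingleton.elim _ _)
  exact isIso_ι_of_isTerminal h _

/-- For a closed subset `T` the Z-closure is `(i_T)_*(F|_{X ∖ T})`. -/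
noncomputable def isoClosed (T : Closeds X) (F : X.Modules) :
    (resPush (topCl T).U).obj F ≅ (H0 (T : Set X)).obj F :=
  have := isIso_inj_top T F
  asIso (inj (Z := (T : Set X)) F (topCl T))

theorem isCoh_of_iso {M N : X.Modules} (e : M ≅ N) (h : Coh.IsCoh M) : Coh.IsCoh N := by
  have h1 : Coh.IsQCoh N := Groth.Agent.Ega1.QCohLoc.isQCoh_of_iso e h.1
  have h2 : Coh.IsQCoh M := h.1
  refine ⟨h1, ?_⟩
  have h3 := Groth.Agent.CohqB.FiniteType2.isFT_iff_finite_sections M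
  have h4 := Groth.Agent.CohqB.FiniteType2.isFT_iff_finite_sections N
  refine h4.2 fun V hV => ?_
  have h5 : Module.Finite Γ(X, V) Γ(M, V) := h3.1 h.2 V hV
  refine Module.Finite.of_surjective (appL e.hom V) ?_
  intro s
  refine ⟨appL e.inv V s, ?_⟩
  have h6 : e.inv ≫ e.hom = 𝟙 _ := e.inv_hom_id
  have h7 : K283.Sec.m (e.inv ≫ e.hom) V s = s := by rw [h6]; rfl
  exact h7

theorem isCoh_resPush_iff (T : Cl Z) :
    Coh.IsCoh ((resPush T.U).obj F) ↔ Coh.IsCoh ((H0 (T.1 : Set X)).obj F) :=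
  ⟨isCoh_of_iso (isoClosed T.1 F), isCoh_of_iso (isoClosed T.1 F).symm⟩

theorem finite_sections [IsLocallyNoetherian X] (hF : Coh.IsCoh F) {V : X.Opens} (hV : IsAffineOpen V) :
    Module.Finite Γ(X, V) Γ(F, V) := by
  have h2 : Coh.IsQCoh F := hF.1
  exact (Groth.Agent.CohqB.FiniteType2.isFT_iff_finite_sections F).1 hF.2 V hV

/-- The codimension condition, on an affine open. -/
theorem two_le_height [IsLocallyNoetherian X] (hZ : StableUnderSpecialization Z) (hF : Coh.IsCoh F)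
    (hH : Coh.IsCoh ((H0 Z).obj F)) {V : X.Opens} (hV : IsAffineOpen V) (p : PrimeSpectrum Γ(X, V))
    (hp : hV.fromSpec p ∈ AssSch.Ass F) (hpZ : hV.fromSpec p ∉ Z)
    (q : PrimeSpectrum (Γ(X, V) ⧸ p.asIdeal)) (hq : q ∈ preZ (Γ(X, V) ⧸ p.asIdeal) (ZV hV Z)) :
    2 ≤ q.asIdeal.height := by
  have : IsNoetherianRing Γ(X, V) := IsLocallyNoetherian.component_noetherian ⟨V, hV⟩
  have := finite_sections hF hV
  exact two_le_height_of_PZ_module (stable_ZV hV hZ)
    ((K356.AffTilde.isCoh_H0_iff hZ hF.1).1 hH V hV) p ((mem_Ass_iff hF.1 hV p).1 hp) hpZ q hq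

/-- d) ⇒ a). -/
theorem isCoh_H0_of_family [IsLocallyNoetherian X] (hZ : StableUnderSpecialization Z) (hF : Coh.IsCoh F)
    (hX : ∀ (V : X.Opens) (hV : IsAffineOpen V) (p : PrimeSpectrum Γ(X, V)),
      hV.fromSpec p ∈ AssSch.Ass F → EGA4.HeightOneHullFinite (Γ(X, V) ⧸ p.asIdeal))
    (hcov : ∀ z ∈ Z, ∃ T : Cl Z, z ∈ (T.1 : Set X) ∧ Coh.IsCoh ((ZClos.resPush T.U).obj F)) :
    Coh.IsCoh ((ZClos.H0 Z).obj F) := by
  rw [K356.AffTilde.isCoh_H0_iff hZ hF.1]
  intro V hV
  have : IsNoetherianRing Γ(X, V) := IsLocallyNoetherian.component_noetherian ⟨V, hV⟩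
  have := finite_sections hF hV
  refine PZ_of_forall_two_le_height (stable_ZV hV hZ) fun p hp hpZ => ?_
  have hp' : hV.fromSpec p ∈ AssSch.Ass F := (mem_Ass_iff hF.1 hV p).2 hp
  refine ⟨hX V hV p hp', fun q hq => ?_⟩
  obtain ⟨T, hzT, hT⟩ := hcov _ hq
  rw [isCoh_resPush_iff T] at hT
  refine two_le_height (Z := (T.1 : Set X)) T.1.isClosed.stableUnderSpecialization hF hT hV p hp' ?_ q hzT
  exact fun h => hpZ (T.2 h)

end K356.Family
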